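import Cfsg.Agent.J4Rep94.C11.Data

/-!
# Certificate data
-/

set_option autoImplicit false
set_option maxRecDepth 100000

namespace Cfsg.Agent.J4Rep94.C11

open Cfsg.Agent.CosetEnum

def fv0 : ℕ := 0x100003000050000700009000790007b0007d0007f0008100083000be000c0000490004b0004d0004f00051000530005500057000590005b0005d0005f00019000760007400072000700006e0006c0006a00068000660006400062000600000c0003000004000bf00085000bc000030004600001000230000300082000800007e0007c0007a000ba0000d0000f00011000130000a000b8000b6000b4000b2000b0000ae000ac000aa000a8000a6000a4000a2000a00009e0009c0009a00098000960009400092000900008e0008c0008a00088000860001800016000140001d0000a000020008400082000800007e0007c0007a000ba000070004400042000400003e0003c0003a00038000360003400032000300002e0002c0002a00028000260002400022000200001e0001c0001a00018000160001400012000100000e0000c0001d000060000100078000010000a000010000500000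
theorem fok0 : sys.checkFacts 93 5 fv0 = true := by decide +kernel


end Cfsg.Agent.J4Rep94.C11
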